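import Cfsg.Agent.Lib.Lattice.ModTwo
import Cfsg.Agent.Lib.Leech.Norm
import Cfsg.Agent.Lib.Leech.CensusValues
import Cfsg.Prelude.Def_SporadicCombinatorics

/-! Classes of the Leech lattice modulo twice itself, and the size of a cross. -/

set_option autoImplicit false

namespace CfsgLib.Lattice

open Cfsg CfsgLib

/-- The inner product on the lattice. -/
def leechPairing : leechLattice →+ leechLattice →+ ℤ :=
  AddMonoidHom.mk'
    (fun x => AddMonoidHom.mk' (fun y => dotInt x.1 y.1)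
      (fun y z => by simp [dotInt, mul_add, Finset.sum_add_distrib]))
    (fun x y => by ext z; simp [dotInt, add_mul, Finset.sum_add_distrib])

theorem leechPairing_self (x : leechLattice) : leechPairing x x = sqNorm x.1 := by
  simp [leechPairing, dotInt, sqNorm, pow_two]

theorem leechPairing_symm (x y : leechLattice) : leechPairing x y = leechPairing y x := by
  simp [leechPairing, dotInt, mul_comm]

theorem leechPairing_min (x : leechLattice) (hx : x ≠ 0) : 4 * 8 ≤ leechPairing x x := by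
  rw [leechPairing_self]
  exact Leech.leech_min_norm x.2 fun h => hx (Subtype.ext h)

theorem ncard_pairing (k : ℤ) :
    {x : leechLattice | leechPairing x x = k}.ncard
      = {x : GolayPt → ℤ | x ∈ leechLattice ∧ sqNorm x = k}.ncard := by
  rw [← Set.ncard_image_of_injective _ Subtype.val_injective]
  congr 1
  ext x
  simp only [leechPairing_self, Set.mem_image, Set.mem_ofPred_eq]
  exact ⟨fun ⟨y, hy, e⟩ => e ▸ ⟨y.2, hy⟩, fun h => ⟨⟨x, h.1⟩, h.2, rfl⟩⟩

theorem leech_classes :
    (∀ x : leechLattice, sqNorm x.1 = 64 →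
      {y : leechLattice | sqNorm y.1 = 64 ∧ ModTwo.Cong x y}.ncard = 48) ∧
    ∀ x : leechLattice, ∃ y : leechLattice, sqNorm y.1 ≤ 64 ∧ ModTwo.Cong x y := by
  have h := ModTwo.classes leechPairing_symm 8 (by norm_num) leechPairing_min
    (I := GolayPt) (by simp) leechLattice.subtype Subtype.val_injective
    ((ncard_pairing _).trans Leech.count_norm32) ((ncard_pairing _).trans Leech.count_norm48)
    ((ncard_pairing _).trans Leech.count_norm64)
  simpa only [leechPairing_self, show (8 : ℤ) * 8 = 64 from rfl] using h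

theorem cong_iff {x y : leechLattice} :
    ModTwo.Cong x y ↔ ∃ z ∈ leechLattice, x.1 - y.1 = 2 • z :=
  ⟨fun ⟨z, hz⟩ => ⟨z.1, z.2, congrArg Subtype.val hz⟩, fun ⟨z, hz, e⟩ => ⟨⟨z, hz⟩, Subtype.ext e⟩⟩

theorem cross_card {x : GolayPt → ℤ} (hx : x ∈ leechLattice) (hxn : sqNorm x = 64) :
    (cross x).ncard = 48 := by
  rw [← leech_classes.1 ⟨x, hx⟩ hxn, ← Set.ncard_image_of_injective _ Subtype.val_injective]
  congr 1
  ext y
  simp only [cross, cong_iff, Set.mem_image, Set.mem_ofPred_eq]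
  constructor
  · rintro ⟨hy, hn, hc⟩; exact ⟨⟨y, hy⟩, ⟨hn.trans hxn, hc⟩, rfl⟩
  · rintro ⟨y, ⟨hn, hc⟩, rfl⟩; exact ⟨y.2, hn.trans hxn.symm, hc⟩

theorem exists_short {x : GolayPt → ℤ} (hx : x ∈ leechLattice) :
    ∃ y ∈ leechLattice, sqNorm y ≤ 64 ∧ ∃ z ∈ leechLattice, x - y = 2 • z := by
  obtain ⟨y, hy, hc⟩ := leech_classes.2 ⟨x, hx⟩
  exact ⟨y.1, y.2, hy, cong_iff.1 hc⟩

end CfsgLib.Lattice
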