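import Cfsg.Agent.Lib.Leech.CensusValues
import Cfsg.Agent.Lib.Leech.Norm

/-! Counts of lattice vectors avoiding given coordinate values, and the shapes of norm six. -/

set_option autoImplicit false

namespace CfsgLib.Lattice.Shapes

open Cfsg CfsgLib CfsgLib.Leech
open scoped Classical

variable {E : Finset ℤ}

/-- The candidates with given parity and bit word. -/
noncomputable def shapePart (E : Finset ℤ) (N : ℤ) (p : Bool) (c : GolayPt → ZMod 2) :
    Finset (GolayPt → ℤ) :=
  (Fintype.piFinset fun i => valSet p (toB (c i)) \ E).filter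
    fun x => (∑ i, x i) % 8 = 4 * bval p ∧ sqNorm x = N

theorem mem_shapePart {N : ℤ} (hN : N ≤ 80) {p : Bool} {c : GolayPt → ZMod 2} {x : GolayPt → ℤ} :
    x ∈ shapePart E N p c ↔
      (∀ i, x i % 2 = bval p) ∧ bits x = c ∧ (∑ i, x i) % 8 = 4 * bval p ∧ sqNorm x = N ∧ ∀ i, x i ∉ E := by
  simp only [shapePart, Finset.mem_filter, Fintype.mem_piFinset, Finset.mem_sdiff, mem_valSet]
  constructor
  · rintro ⟨h, hs, hn⟩
    exact ⟨fun i => (h i).1.2.1, funext fun i => (bval_toB_iff _ _).1 (h i).1.2.2, hs, hn,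
      fun i => (h i).2⟩
  · rintro ⟨hp, hc, hs, hn, hE⟩
    refine ⟨fun i => ⟨⟨?_, hp i, (bval_toB_iff _ _).2 (congrFun hc i)⟩, hE i⟩, hs, hn⟩
    have h1 : x i ^ 2 ≤ sqNorm x :=
      Finset.single_le_sum (f := fun j => x j ^ 2) (fun j _ => sq_nonneg _) (Finset.mem_univ i)
    rw [pow_two] at h1
    exact le_trans h1 (hn.trans_le hN)

theorem shape_census_eq (N : ℤ) (hN : N ≤ 80) :
    {x : GolayPt → ℤ | x ∈ leechLattice ∧ sqNorm x = N ∧ ∀ i, x i ∉ E} =
      ↑((Finset.univ ×ˢ codeFin).biUnion fun pc => shapePart E N pc.1 pc.2) := by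
  ext x
  simp only [Set.mem_ofPred_eq, Finset.coe_biUnion, Set.mem_iUnion, Finset.mem_coe,
    Finset.mem_product, Finset.mem_univ, true_and, mem_shapePart hN, mem_codeFin, mem_leech_iff]
  constructor
  · rintro ⟨⟨h1, h2, h3⟩, h4, h5⟩
    have hb : x none % 2 = bval (decide (x none % 2 = 1)) := by
      rcases Int.emod_two_eq_zero_or_one (x none) with h | h <;> rw [h] <;> rfl
    refine ⟨(decide (x none % 2 = 1), bits x), h2, fun i => (h1 i).trans hb, rfl, ?_, h4, h5⟩
    rw [h3, ← hb]; omega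
  · rintro ⟨⟨p, c⟩, hc, hp, hb, hs, hn, hE⟩
    refine ⟨⟨fun i => (hp i).trans (hp none).symm, hb ▸ hc, ?_⟩, hn, hE⟩
    have h1 : x none % 2 = bval p := hp none
    have h2 : (∑ i, x i) % 8 = 4 * bval p := hs
    cases p <;> simp only [bval, Bool.false_eq_true, if_false, if_true] at h1 h2 <;> omega

/-- The number of candidates of one part, as an arithmetic expression. -/
def shapeCount (E : Finset ℤ) (N : ℕ) (p : Bool) (w : ℕ) : ℕ :=
  let f := fun b => ∑ a ∈ valSet p b \ E,
    (2 ^ 64) ^ ((a % 8).toNat * 385 + (a * a).toNat / 4)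
  let pn := if p then 1 else 0
  f true ^ w * f false ^ (24 - w) % ((2 ^ 64) ^ (8 * 385) - 1) /
    (2 ^ 64) ^ (4 * pn * 385 + (N - 24 * pn) / 4) % 2 ^ 64

theorem card_shapePart (N : ℕ) (hN : N ≤ 80) (hN24 : 24 ≤ N) (hN4 : N % 4 = 0) (p : Bool)
    (c : GolayPt → ZMod 2) :
    (shapePart E (N : ℤ) p c).card = shapeCount E N p (hammingNorm c) := by
  set pn : ℕ := if p then 1 else 0 with hpn
  have hp : bval p = (pn : ℤ) := by cases p <;> rfl
  have hpn2 : pn ≤ 1 := by cases p <;> simp [hpn]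
  have hQ : (Fintype.piFinset fun i => valSet p (toB (c i)) \ E).card < 2 ^ 64 := by
    rw [Fintype.card_piFinset]
    refine lt_of_le_of_lt (Finset.prod_le_prod' (g := fun _ => 5) fun i _ => ?_) ?_
    · refine (Finset.card_le_card Finset.sdiff_subset).trans ?_
      cases p <;> cases toB (c i) <;> decide
    · rw [Finset.prod_const]; simp
  have hD : ∀ x ∈ Fintype.piFinset (fun i => valSet p (toB (c i)) \ E),
      ∑ i, (x i * x i).toNat / 4 < 385 := by
    intro x hx
    refine lt_of_le_of_lt (Finset.sum_le_sum (g := fun _ => 16) fun i _ => ?_) (by simp)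
    have := (Finset.mem_sdiff.1 (Fintype.mem_piFinset.1 hx i)).1
    revert this
    generalize x i = a
    revert a
    cases p <;> cases toB (c i) <;> decide
  have h := card_pi_filter (fun i => valSet p (toB (c i)) \ E) (fun _ a => (a % 8).toNat)
    (fun _ a => (a * a).toNat / 4) 8 385 (2 ^ 64) (4 * pn) ((N - 24 * pn) / 4)
    (by omega) (by omega) hQ hD (by omega) (by norm_num)
  have hset : shapePart E (N : ℤ) p c =
      (Fintype.piFinset fun i => valSet p (toB (c i)) \ E).filter fun x =>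
        (∑ i, (x i % 8).toNat) % 8 = 4 * pn ∧
          ∑ i, (x i * x i).toNat / 4 = (N - 24 * pn) / 4 := by
    unfold shapePart
    refine Finset.filter_congr fun x hx => ?_
    have hs : (((∑ i, (x i % 8).toNat) % 8 : ℕ) : ℤ) = (∑ i, x i) % 8 := by
      push_cast
      rw [Finset.sum_int_mod (f := x)]
      refine congrArg (· % 8) (Finset.sum_congr rfl fun i _ => ?_)
      exact Int.toNat_of_nonneg (Int.emod_nonneg _ (by norm_num))
    have hn : sqNorm x = 4 * ((∑ i, (x i * x i).toNat / 4 : ℕ) : ℤ) + 24 * pn := by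
      unfold sqNorm
      rw [Nat.cast_sum, Finset.mul_sum]
      have : (24 : ℤ) * pn = ∑ _i : GolayPt, bval p := by
        rw [hp, Finset.sum_const]; simp
      rw [this, ← Finset.sum_add_distrib]
      refine Finset.sum_congr rfl fun i _ => sq_eq_four_mul_add ?_
      exact ((mem_valSet _ _ _).1 (Finset.mem_sdiff.1 (Fintype.mem_piFinset.1 hx i)).1).2.1
    rw [hn, ← hs, hp]
    constructor <;> rintro ⟨a, b⟩ <;> constructor <;> omega
  rw [hset, h]
  have hprod : (∏ i, ∑ a ∈ valSet p (toB (c i)) \ E,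
        (2 ^ 64) ^ ((a % 8).toNat * 385 + (a * a).toNat / 4)) =
      (∑ a ∈ valSet p true \ E, (2 ^ 64) ^ ((a % 8).toNat * 385 + (a * a).toNat / 4)) ^ hammingNorm c *
      (∑ a ∈ valSet p false \ E, (2 ^ 64) ^ ((a % 8).toNat * 385 + (a * a).toNat / 4)) ^
        (24 - hammingNorm c) := by
    rw [← Finset.prod_filter_mul_prod_filter_not Finset.univ (fun i => c i ≠ 0)]
    congr 1
    · rw [Finset.prod_congr rfl (g := fun _ => _), Finset.prod_const]
      · rfl
      · intro i hi
        rw [Finset.mem_filter_univ] at hi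
        rcases zmod_two_cases (c i) with h0 | h0
        · exact absurd h0 hi
        · rw [h0]; rfl
    · rw [Finset.prod_congr rfl (g := fun _ => _), Finset.prod_const]
      · congr 1
        rw [Finset.filter_not, Finset.card_sdiff_of_subset (Finset.subset_univ _)]
        rfl
      · intro i hi
        rw [Finset.mem_filter_univ, not_not] at hi
        rw [hi]; rfl
  rw [hprod]
  rfl

theorem shape_census_card (N : ℕ) (hN : N ≤ 80) (hN24 : 24 ≤ N) (hN4 : N % 4 = 0) :
    {x : GolayPt → ℤ | x ∈ leechLattice ∧ sqNorm x = (N : ℤ) ∧ ∀ i, x i ∉ E}.ncard =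
      ∑ p : Bool, ∑ w ∈ Finset.range 25, codeWt w * shapeCount E N p w := by
  rw [shape_census_eq _ (by exact_mod_cast hN), Set.ncard_coe_finset, Finset.card_biUnion]
  · rw [Finset.sum_product]
    refine Finset.sum_congr rfl fun p _ => ?_
    rw [← Finset.sum_fiberwise_of_maps_to (g := fun c => hammingNorm c) (t := Finset.range 25)]
    · refine Finset.sum_congr rfl fun w _ => ?_
      rw [codeWt, ← smul_eq_mul, ← Finset.sum_const]
      refine Finset.sum_congr rfl fun c hc => ?_
      rw [card_shapePart N hN hN24 hN4, (Finset.mem_filter.1 hc).2]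
    · intro c _
      rw [Finset.mem_range]
      have := hammingNorm_le_card_fintype (x := c)
      simp at this; omega
  · rintro ⟨p, c⟩ _ ⟨q, d⟩ _ hne
    rw [Function.onFun, Finset.disjoint_left]
    intro x hx hy
    rw [mem_shapePart (by exact_mod_cast hN)] at hx hy
    apply hne
    have h1 := hx.1 none
    have h2 := hy.1 none
    have : p = q := by cases p <;> cases q <;> simp_all [bval]
    exact Prod.ext this (hx.2.1.symm.trans hy.2.1)

theorem avoid_card (E : Finset ℤ) (N : ℕ) (hN : N ≤ 80) (hN24 : 24 ≤ N) (hN4 : N % 4 = 0) :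
    {x : GolayPt → ℤ | x ∈ leechLattice ∧ sqNorm x = (N : ℤ) ∧ ∀ i, x i ∉ E}.ncard =
      ∑ p : Bool, ∑ w ∈ Finset.range 25, weightDist w * shapeCount E N p w := by
  rw [shape_census_card N hN hN24 hN4]
  simp only [codeWt_eq]

/-- The coordinate values excluded from the vectors of shape `2^12`. -/
def notTwo : Finset ℤ := {1, -1, 3, -3, 4, -4, 5, -5, 6, -6, 7, -7, 8, -8}

/-- The coordinate values excluded from the vectors of shape `3^3 1^21`. -/
def notOneThree : Finset ℤ := {0, 2, -2, 4, -4, 5, -5, 6, -6, 7, -7, 8, -8}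

theorem abs_le_seven {x : GolayPt → ℤ} (hn : sqNorm x = 48) (i : GolayPt) :
    -7 < x i ∧ x i < 7 := by
  have h1 : x i ^ 2 ≤ sqNorm x :=
    Finset.single_le_sum (f := fun j => x j ^ 2) (fun j _ => sq_nonneg _) (Finset.mem_univ i)
  constructor <;> nlinarith

theorem shape_two :
    {x : GolayPt → ℤ | x ∈ leechLattice ∧ sqNorm x = 48 ∧ ∀ i, x i = 0 ∨ x i = 2 ∨ x i = -2}.ncard
      = 5275648 := by
  have e : {x : GolayPt → ℤ | x ∈ leechLattice ∧ sqNorm x = 48 ∧ ∀ i, x i = 0 ∨ x i = 2 ∨ x i = -2}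
      = {x : GolayPt → ℤ | x ∈ leechLattice ∧ sqNorm x = ((48 : ℕ) : ℤ) ∧ ∀ i, x i ∉ notTwo} := by
    ext x
    refine and_congr_right fun _ => and_congr_right fun hn => forall_congr' fun i => ?_
    obtain ⟨h1, h2⟩ := abs_le_seven hn i
    generalize x i = a at h1 h2 ⊢
    interval_cases a <;> decide
  rw [e, avoid_card _ 48 (by norm_num) (by norm_num) (by norm_num)]
  decide +kernel

theorem ncard_exists_abs (a : ℤ) (ha : 0 < a) :
    {x : GolayPt → ℤ | x ∈ leechLattice ∧ sqNorm x = 48 ∧ ∃ i, |x i| = a}.ncard =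
      16773120 - {x : GolayPt → ℤ | x ∈ leechLattice ∧ sqNorm x = ((48 : ℕ) : ℤ) ∧
        ∀ i, x i ∉ ({a, -a} : Finset ℤ)}.ncard := by
  have hfin : {x : GolayPt → ℤ | x ∈ leechLattice ∧ sqNorm x = 48}.Finite :=
    Set.finite_of_ncard_ne_zero (by rw [count_norm48]; norm_num)
  have hsub : {x : GolayPt → ℤ | x ∈ leechLattice ∧ sqNorm x = ((48 : ℕ) : ℤ) ∧
      ∀ i, x i ∉ ({a, -a} : Finset ℤ)} ⊆ {x | x ∈ leechLattice ∧ sqNorm x = 48} :=
    fun x hx => ⟨hx.1, hx.2.1⟩
  rw [← count_norm48, ← Set.ncard_sdiff hsub (hfin.subset hsub)]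
  congr 1
  ext x
  simp only [Set.mem_sdiff, Set.mem_ofPred_eq, Finset.mem_insert, Finset.mem_singleton,
    Nat.cast_ofNat, not_and, not_forall, not_not, abs_eq ha.le]
  exact ⟨fun ⟨h1, h2, h3⟩ => ⟨⟨h1, h2⟩, fun _ _ => h3⟩, fun ⟨⟨h1, h2⟩, h3⟩ => ⟨h1, h2, h3 h1 h2⟩⟩

theorem shape_four :
    {x : GolayPt → ℤ | x ∈ leechLattice ∧ sqNorm x = 48 ∧ ∃ i, |x i| = 4}.ncard = 3108864 := by
  rw [ncard_exists_abs 4 (by norm_num), avoid_card _ 48 (by norm_num) (by norm_num) (by norm_num)]
  decide +kernel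

theorem shape_five :
    {x : GolayPt → ℤ | x ∈ leechLattice ∧ sqNorm x = 48 ∧ ∃ i, |x i| = 5}.ncard = 98304 := by
  rw [ncard_exists_abs 5 (by norm_num), avoid_card _ 48 (by norm_num) (by norm_num) (by norm_num)]
  decide +kernel

theorem shape_three :
    {x : GolayPt → ℤ | x ∈ leechLattice ∧ sqNorm x = 48 ∧ ∃ i j k, i ≠ j ∧ j ≠ k ∧ i ≠ k ∧
      |x i| = 3 ∧ |x j| = 3 ∧ |x k| = 3}.ncard = 8290304 := by
  have e : {x : GolayPt → ℤ | x ∈ leechLattice ∧ sqNorm x = 48 ∧ ∃ i j k, i ≠ j ∧ j ≠ k ∧ i ≠ k ∧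
      |x i| = 3 ∧ |x j| = 3 ∧ |x k| = 3}
      = {x : GolayPt → ℤ | x ∈ leechLattice ∧ sqNorm x = ((48 : ℕ) : ℤ) ∧
          ∀ i, x i ∉ notOneThree} := by
    ext x
    refine and_congr_right fun hx => and_congr_right fun hn => ?_
    have hsum : ∑ t, (x t ^ 2 - 1) = 24 := by
      have : sqNorm x = 48 := hn
      unfold sqNorm at this
      rw [Finset.sum_sub_distrib, this, sum_card_const]
      norm_num
    have one : ∀ t, x t ∉ notOneThree → x t ^ 2 - 1 = if |x t| = 3 then 8 else 0 := by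
      intro t ht
      obtain ⟨h1, h2⟩ := abs_le_seven hn t
      generalize x t = a at h1 h2 ht ⊢
      interval_cases a <;> first | exact absurd (by decide) ht | norm_num
    constructor
    · rintro ⟨i, j, k, hij, hjk, hik, hi, hj, hk⟩
      have hodd : ∀ t, x t % 2 = 1 := by
        intro t
        have hp := (mem_leech_iff.1 hx).1
        have h1 := hp t
        have h2 := hp i
        rcases (abs_eq (by norm_num : (0 : ℤ) ≤ 3)).1 hi with e | e <;> omega
      have hnn : ∀ t, 0 ≤ x t ^ 2 - 1 := fun t => by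
        have := hodd t
        have := sq_pos_of_ne_zero (show x t ≠ 0 by omega)
        omega
      have h3 : ∀ t, |x t| = 3 → x t ^ 2 - 1 = 8 := fun t ht => by rw [← sq_abs, ht]; norm_num
      have hsub : ({i, j, k} : Finset GolayPt) ⊆ Finset.univ := Finset.subset_univ _
      have h24 : ∑ t ∈ ({i, j, k} : Finset GolayPt), (x t ^ 2 - 1) = 24 := by
        rw [Finset.sum_insert (by simp [hij, hik]), Finset.sum_pair hjk, h3 i hi, h3 j hj, h3 k hk]
        norm_num
      have hrest : ∑ t ∈ Finset.univ \ ({i, j, k} : Finset GolayPt), (x t ^ 2 - 1) = 0 := by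
        rw [Finset.sum_sdiff_eq_sub hsub, hsum, h24, sub_self]
      intro t
      have hval : x t = 1 ∨ x t = -1 ∨ x t = 3 ∨ x t = -3 := by
        by_cases ht : t ∈ ({i, j, k} : Finset GolayPt)
        · simp only [Finset.mem_insert, Finset.mem_singleton] at ht
          rcases ht with rfl | rfl | rfl <;>
            first
              | (rcases (abs_eq (by norm_num : (0 : ℤ) ≤ 3)).1 hi with e | e <;> simp [e]; done)
              | (rcases (abs_eq (by norm_num : (0 : ℤ) ≤ 3)).1 hj with e | e <;> simp [e]; done)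
              | (rcases (abs_eq (by norm_num : (0 : ℤ) ≤ 3)).1 hk with e | e <;> simp [e]; done)
        · have := (Finset.sum_eq_zero_iff_of_nonneg fun t _ => hnn t).1 hrest t
            (Finset.mem_sdiff.2 ⟨Finset.mem_univ _, ht⟩)
          rcases sq_eq_one_iff.1 (show x t ^ 2 = 1 by omega) with e | e <;> simp [e]
      rcases hval with e | e | e | e <;> rw [e] <;> decide
    · intro h
      rw [Finset.sum_congr rfl fun t _ => one t (h t), Finset.sum_ite, Finset.sum_const_zero,
        add_zero, Finset.sum_const, nsmul_eq_mul] at hsum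
      obtain ⟨i, j, k, hij, hik, hjk, e⟩ := Finset.card_eq_three.1
        (show (Finset.univ.filter fun t => |x t| = 3).card = 3 by omega)
      have m : ∀ t ∈ ({i, j, k} : Finset GolayPt), |x t| = 3 := fun t ht => by
        rw [← e, Finset.mem_filter] at ht
        exact ht.2
      exact ⟨i, j, k, hij, hjk, hik, m i (by simp), m j (by simp), m k (by simp)⟩
  rw [e, avoid_card _ 48 (by norm_num) (by norm_num) (by norm_num)]
  decide +kernel

end CfsgLib.Lattice.Shapes
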