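import Mathlib

set_option autoImplicit false

namespace CfsgLib.Lattice.ModTwo

variable {L : Type*} [AddCommGroup L] (β : L →+ L →+ ℤ)

/-- Congruence modulo twice the lattice. -/
def Cong (x y : L) : Prop := ∃ z : L, x - y = 2 • z

variable {β}

theorem Cong.symm {x y : L} (h : Cong x y) : Cong y x := by
  obtain ⟨z, hz⟩ := h
  exact ⟨-z, by rw [smul_neg, ← hz, neg_sub]⟩

theorem Cong.trans {x y w : L} (h : Cong x y) (h' : Cong y w) : Cong x w := by
  obtain ⟨z, hz⟩ := h
  obtain ⟨z', hz'⟩ := h'
  exact ⟨z + z', by rw [smul_add, ← hz, ← hz']; abel⟩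

variable (hs : ∀ x y, β x y = β y x) (c : ℤ) (hc : 0 < c) (hmin : ∀ x : L, x ≠ 0 → 4 * c ≤ β x x)

include hs hmin in
theorem short_cong {x y : L} (h : Cong x y) (hx : β x x ≤ 8 * c) (hy : β y y ≤ 8 * c) :
    y = x ∨ y = -x ∨ (β x x = 8 * c ∧ β y y = 8 * c ∧ β x y = 0) := by
  obtain ⟨z, hz⟩ := h
  by_cases h1 : y = x
  · exact .inl h1
  by_cases h2 : y = -x
  · exact .inr (.inl h2)
  right; right
  have hxy : x = y + 2 • z := by rw [← hz]; abel
  have hz0 : z ≠ 0 := by
    rintro rfl
    exact h1 (by rw [hxy, smul_zero, add_zero])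
  have hw0 : y + z ≠ 0 := by
    intro hw
    have : z = -y := (neg_eq_of_add_eq_zero_right hw).symm
    exact h2 (by rw [hxy, this]; abel)
  have A := hmin z hz0
  have B := hmin _ hw0
  have e1 : β x x = β y y + 4 * β y z + 4 * β z z := by
    rw [hxy]; simp only [map_add, AddMonoidHom.add_apply, map_nsmul, AddMonoidHom.nsmul_apply,
      nsmul_eq_mul, hs z y]; push_cast; ring
  have e2 : β x y = β y y + 2 * β y z := by
    rw [hxy]; simp only [map_add, AddMonoidHom.add_apply, map_nsmul, AddMonoidHom.nsmul_apply,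
      nsmul_eq_mul, hs z y]; push_cast; ring
  have e3 : β (y + z) (y + z) = β y y + 2 * β y z + β z z := by
    simp only [map_add, AddMonoidHom.add_apply, hs z y]; ring
  refine ⟨?_, ?_, ?_⟩ <;> omega

open Classical in
include hs hc hmin in
theorem frame_card_le {I : Type*} [Fintype I] (ι : L →+ (I → ℤ)) (hι : Function.Injective ι)
    {x : L} (F : Finset L) (hF : ∀ y ∈ F, β y y = 8 * c ∧ Cong x y) :
    F.card ≤ 2 * Fintype.card I := by
  let f : L → Finset L := fun y => {y, -y}
  have hfib : ∀ b ∈ F.image f, (F.filter (fun y => f y = b)).card ≤ 2 := by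
    intro b hb
    obtain ⟨y, _, rfl⟩ := Finset.mem_image.1 hb
    calc _ ≤ (f y).card := Finset.card_le_card (fun z hz => by
          have := (Finset.mem_filter.1 hz).2
          rw [← this]; simp [f])
      _ ≤ 2 := by
          refine (Finset.card_insert_le _ _).trans ?_
          simp
  have h1 : F.card ≤ (F.image f).card * 2 := by
    rw [Finset.card_eq_sum_card_image f F]
    exact (Finset.sum_le_card_nsmul _ _ 2 hfib).trans_eq (by simp)
  have hex : ∀ b : {b // b ∈ F.image f}, ∃ y, y ∈ F ∧ f y = b.1 := fun b =>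
    Finset.mem_image.1 b.2
  choose g hgF hgf using hex
  have hinj : Function.Injective g := fun a b hab => Subtype.ext (by rw [← hgf a, hab, hgf b])
  have horth : ∀ a b, a ≠ b → β (g a) (g b) = 0 := by
    intro a b hab
    have ha := hF _ (hgF a)
    have hb := hF _ (hgF b)
    rcases short_cong hs c hmin (ha.2.symm.trans hb.2) ha.1.le hb.1.le with h | h | h
    · exact absurd (hinj h).symm hab
    · refine absurd (Subtype.ext ?_) hab
      rw [← hgf a, ← hgf b, h]
      simp [f, Finset.pair_comm]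
    · exact h.2.2
  have hli : LinearIndependent ℤ g := by
    rw [linearIndependent_iff']
    intro s r hr i hi
    have := congrArg (fun v => β v (g i)) hr
    simp only [map_sum, AddMonoidHom.finsetSum_apply, map_zsmul, AddMonoidHom.coe_smul,
      Pi.smul_apply, map_zero, AddMonoidHom.zero_apply] at this
    rw [Finset.sum_eq_single i] at this
    · rcases mul_eq_zero.1 (by simpa using this : r i * β (g i) (g i) = 0) with h | h
      · exact h
      · exact absurd h (by rw [(hF _ (hgF i)).1]; omega)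
    · intro j _ hj; simp [horth j i hj]
    · exact fun h => absurd hi h
  have hli' : LinearIndependent ℤ (fun b => ι.toIntLinearMap (g b)) :=
    hli.map' ι.toIntLinearMap (LinearMap.ker_eq_bot.2 hι)
  have h2 := hli'.fintype_card_le_finrank
  rw [Module.finrank_fintype_fun_eq_card, Fintype.card_coe] at h2
  omega

/-- A mod-two coordinate map for a lattice embedded in `ℤ^I`. -/
theorem exists_red {I : Type*} [Fintype I] (ι : L →+ (I → ℤ)) (hι : Function.Injective ι) :
    ∃ m ≤ Fintype.card I, ∃ red : L → (Fin m → ZMod 2), ∀ x y, red x = red y → Cong x y := by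
  let e : L ≃ₗ[ℤ] LinearMap.range ι.toIntLinearMap := LinearEquiv.ofInjective ι.toIntLinearMap hι
  let b := Module.finBasis ℤ (LinearMap.range ι.toIntLinearMap)
  refine ⟨_, ?_, fun x i => ((b.repr (e x) i : ℤ) : ZMod 2), fun x y h => ?_⟩
  · exact (Submodule.finrank_le _).trans_eq (Module.finrank_fintype_fun_eq_card (R := ℤ))
  · have hd : ∀ i, ∃ k, b.repr (e (x - y)) i = 2 * k := fun i => by
      have := congrFun h i
      obtain ⟨k, hk⟩ := (ZMod.intCast_eq_intCast_iff_dvd_sub _ _ 2).1 this.symm
      exact ⟨k, by rw [map_sub, map_sub, Finsupp.sub_apply]; simpa using hk⟩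
    choose k hk using hd
    refine ⟨e.symm (∑ i, k i • b i), e.injective ?_⟩
    rw [map_nsmul, LinearEquiv.apply_symm_apply, ← b.sum_repr (e (x - y)), Finset.smul_sum]
    refine Finset.sum_congr rfl fun i _ => ?_
    rw [hk i, mul_smul, two_smul, two_smul]

open Classical in
include hs hc hmin in
/-- The counting argument: with the vector counts of the Leech lattice, every class modulo `2L` has a
representative of norm at most `8`, and every norm-`8` class has exactly 48 members. -/
theorem classes {I : Type*} [Fintype I] (hI : Fintype.card I = 24) (ι : L →+ (I → ℤ))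
    (hι : Function.Injective ι) (h4 : {x : L | β x x = 4 * c}.ncard = 196560)
    (h6 : {x : L | β x x = 6 * c}.ncard = 16773120)
    (h8 : {x : L | β x x = 8 * c}.ncard = 398034000) :
    (∀ x : L, β x x = 8 * c → {y : L | β y y = 8 * c ∧ Cong x y}.ncard = 48) ∧
      ∀ x : L, ∃ y, β y y ≤ 8 * c ∧ Cong x y := by
  obtain ⟨m, hm, red, hred⟩ := exists_red ι hι
  have hfin : ∀ {k : ℤ} {n : ℕ}, {x : L | β x x = k}.ncard = n + 1 → {x : L | β x x = k}.Finite :=
    fun h => Set.finite_of_ncard_ne_zero (by rw [h]; exact Nat.succ_ne_zero _)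
  have f4 := hfin h4
  have f6 := hfin h6
  have f8 := hfin h8
  let S4 := f4.toFinset
  let S6 := f6.toFinset
  let S8 := f8.toFinset
  let I4 := S4.image red
  let I6 := S6.image red
  let I8 := S8.image red
  have c4 : S4.card = 196560 := (Set.ncard_eq_toFinset_card _ f4).symm.trans h4
  have c6 : S6.card = 16773120 := (Set.ncard_eq_toFinset_card _ f6).symm.trans h6
  have c8 : S8.card = 398034000 := (Set.ncard_eq_toFinset_card _ f8).symm.trans h8
  have m4 : ∀ x, x ∈ S4 ↔ β x x = 4 * c := fun x => f4.mem_toFinset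
  have m6 : ∀ x, x ∈ S6 ↔ β x x = 6 * c := fun x => f6.mem_toFinset
  have m8 : ∀ x, x ∈ S8 ↔ β x x = 8 * c := fun x => f8.mem_toFinset
  have small : ∀ (k : ℤ) (S : Finset L), (∀ x ∈ S, β x x = k) → k < 8 * c →
      S.card ≤ (S.image red).card * 2 := by
    intro k S hS hk
    rw [Finset.card_eq_sum_card_image red S]
    refine (Finset.sum_le_card_nsmul _ _ 2 ?_).trans_eq (by simp)
    intro b hb
    obtain ⟨y, hy, rfl⟩ := Finset.mem_image.1 hb
    refine (Finset.card_le_card (t := {y, -y}) ?_).trans ?_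
    · intro z hz
      obtain ⟨hz1, hz2⟩ := Finset.mem_filter.1 hz
      rcases short_cong hs c hmin (hred _ _ hz2.symm) (by rw [hS y hy]; omega)
        (by rw [hS z hz1]; omega) with h | h | h
      · simp [h]
      · simp [h]
      · rw [hS y hy] at h; omega
    · refine (Finset.card_insert_le _ _).trans ?_
      simp
  have k4 : 196560 ≤ I4.card * 2 := c4 ▸ small _ S4 (fun x hx => (m4 x).1 hx) (by omega)
  have k6 : 16773120 ≤ I6.card * 2 := c6 ▸ small _ S6 (fun x hx => (m6 x).1 hx) (by omega)
  have fib8 : ∀ b ∈ I8, (S8.filter (fun y => red y = b)).card ≤ 48 := by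
    intro b hb
    obtain ⟨y, hy, rfl⟩ := Finset.mem_image.1 hb
    have := frame_card_le hs c hc hmin ι hι (x := y) (S8.filter (fun z => red z = red y))
      (fun z hz => ⟨(m8 z).1 (Finset.mem_filter.1 hz).1, hred _ _ (Finset.mem_filter.1 hz).2.symm⟩)
    omega
  have k8 : (398034000 : ℕ) = ∑ b ∈ I8, (S8.filter (fun y => red y = b)).card :=
    c8.symm.trans (Finset.card_eq_sum_card_image red S8)
  have k8' : 398034000 ≤ I8.card * 48 := by
    rw [k8]
    exact (Finset.sum_le_card_nsmul _ _ 48 fib8).trans_eq (by simp)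
  have clash : ∀ u v : L, β u u ≤ 8 * c → β v v ≤ 8 * c → red u = red v → β u u = β v v := by
    intro u v hu hv h
    rcases short_cong hs c hmin (hred _ _ h) hu hv with e | e | e
    · rw [e]
    · rw [e]; simp
    · rw [e.1, e.2.1]
  let U : Finset (Fin m → ZMod 2) := {red 0} ∪ I4 ∪ I6 ∪ I8
  have d4 : Disjoint ({red 0} : Finset (Fin m → ZMod 2)) I4 := by
    rw [Finset.disjoint_singleton_left, Finset.mem_image]
    rintro ⟨u, hu, h⟩
    have := clash u 0 (by rw [(m4 u).1 hu]; omega) (by simp; omega) h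
    rw [(m4 u).1 hu] at this; simp at this; omega
  have d6 : Disjoint ({red 0} ∪ I4 : Finset (Fin m → ZMod 2)) I6 := by
    rw [Finset.disjoint_left]
    intro b hb hb'
    obtain ⟨u, hu, rfl⟩ := Finset.mem_image.1 hb'
    rcases Finset.mem_union.1 hb with h | h
    · have := clash u 0 (by rw [(m6 u).1 hu]; omega) (by simp; omega) (Finset.mem_singleton.1 h)
      rw [(m6 u).1 hu] at this; simp at this; omega
    · obtain ⟨v, hv, h⟩ := Finset.mem_image.1 h
      have := clash v u (by rw [(m4 v).1 hv]; omega) (by rw [(m6 u).1 hu]; omega) h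
      rw [(m6 u).1 hu, (m4 v).1 hv] at this; omega
  have d8 : Disjoint ({red 0} ∪ I4 ∪ I6 : Finset (Fin m → ZMod 2)) I8 := by
    rw [Finset.disjoint_left]
    intro b hb hb'
    obtain ⟨u, hu, rfl⟩ := Finset.mem_image.1 hb'
    have hu' := (m8 u).1 hu
    rcases Finset.mem_union.1 hb with h | h
    · rcases Finset.mem_union.1 h with h | h
      · have := clash u 0 (by omega) (by simp; omega) (Finset.mem_singleton.1 h)
        simp at this; omega
      · obtain ⟨v, hv, h⟩ := Finset.mem_image.1 h
        have := clash v u (by rw [(m4 v).1 hv]; omega) (by omega) h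
        rw [(m4 v).1 hv] at this; omega
    · obtain ⟨v, hv, h⟩ := Finset.mem_image.1 h
      have := clash v u (by rw [(m6 v).1 hv]; omega) (by omega) h
      rw [(m6 v).1 hv] at this; omega
  have hU : U.card = 1 + I4.card + I6.card + I8.card := by
    simp only [U]
    rw [Finset.card_union_of_disjoint d8, Finset.card_union_of_disjoint d6,
      Finset.card_union_of_disjoint d4, Finset.card_singleton]
  have huniv : Fintype.card (Fin m → ZMod 2) ≤ 16777216 := by
    rw [Fintype.card_fun, ZMod.card, Fintype.card_fin]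
    calc 2 ^ m ≤ 2 ^ 24 := Nat.pow_le_pow_right (by norm_num) (hI ▸ hm)
      _ = _ := by norm_num
  have hUle := Finset.card_le_univ U
  constructor
  · intro x hx
    have hx8 : red x ∈ I8 := Finset.mem_image.2 ⟨x, (m8 x).2 hx, rfl⟩
    have heq : (S8.filter (fun y => red y = red x)).card = 48 := by
      by_contra hne
      have hlt := Finset.sum_lt_sum fib8 ⟨red x, hx8, lt_of_le_of_ne (fib8 _ hx8) hne⟩
      rw [← k8, Finset.sum_const, smul_eq_mul] at hlt
      omega
    have sub : (↑(S8.filter (fun y => red y = red x)) : Set L) ⊆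
        {y : L | β y y = 8 * c ∧ Cong x y} := fun z hz =>
      ⟨(m8 z).1 (Finset.mem_filter.1 hz).1, hred _ _ (Finset.mem_filter.1 hz).2.symm⟩
    have hf : {y : L | β y y = 8 * c ∧ Cong x y}.Finite := f8.subset fun z hz => hz.1
    refine le_antisymm ?_ ?_
    · rw [Set.ncard_eq_toFinset_card _ hf]
      have := frame_card_le hs c hc hmin ι hι (x := x) hf.toFinset (fun y hy => hf.mem_toFinset.1 hy)
      omega
    · have := Set.ncard_le_ncard sub hf
      rwa [Set.ncard_coe_finset, heq] at this
  · intro x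
    have hall : U = Finset.univ := Finset.eq_univ_of_card _ (by omega)
    have hmem : red x ∈ U := hall ▸ Finset.mem_univ _
    simp only [U, Finset.mem_union, Finset.mem_singleton, I4, I6, I8, Finset.mem_image] at hmem
    rcases hmem with ((h | ⟨v, hv, h⟩) | ⟨v, hv, h⟩) | ⟨v, hv, h⟩
    · exact ⟨0, by simp; omega, hred _ _ h⟩
    · exact ⟨v, by rw [(m4 v).1 hv]; omega, hred _ _ h.symm⟩
    · exact ⟨v, by rw [(m6 v).1 hv]; omega, hred _ _ h.symm⟩
    · exact ⟨v, by rw [(m8 v).1 hv], hred _ _ h.symm⟩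

/-- The additive bilinear map of an integral matrix. -/
def matrixPairing {n : Type*} [Fintype n] (B : Matrix n n ℤ) : (n → ℤ) →+ (n → ℤ) →+ ℤ :=
  AddMonoidHom.mk' (fun x => AddMonoidHom.mk' (fun y => dotProduct x (B.mulVec y))
      (fun y z => by rw [Matrix.mulVec_add, dotProduct_add]))
    (fun x y => by ext z; simp [add_dotProduct])

theorem matrixPairing_symm {n : Type*} [Fintype n] {B : Matrix n n ℤ} (hB : B.IsSymm)
    (x y : n → ℤ) : matrixPairing B x y = matrixPairing B y x := by
  show dotProduct x (B.mulVec y) = dotProduct y (B.mulVec x)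
  rw [Matrix.dotProduct_mulVec, dotProduct_comm, ← Matrix.mulVec_transpose, hB.eq]

theorem matrixPairing_min {n : Type*} [Fintype n] {B : Matrix n n ℤ}
    (hpos : ∀ x : n → ℤ, x ≠ 0 → 0 < dotProduct x (B.mulVec x))
    (heven : ∀ x : n → ℤ, (2 : ℤ) ∣ dotProduct x (B.mulVec x))
    (h2 : ∀ x : n → ℤ, dotProduct x (B.mulVec x) ≠ 2) (x : n → ℤ) (hx : x ≠ 0) :
    4 * 1 ≤ matrixPairing B x x := by
  show _ ≤ dotProduct x (B.mulVec x)
  have := hpos x hx
  obtain ⟨k, hk⟩ := heven x
  have := h2 x
  omega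

theorem cong_of_dvd {n : Type*} {x y : n → ℤ} (h : ∀ i, (2 : ℤ) ∣ (x - y) i) : Cong x y := by
  choose k hk using h
  exact ⟨k, funext fun i => by rw [hk i]; simp⟩

theorem dvd_of_cong {n : Type*} {x y : n → ℤ} (h : Cong x y) (i : n) : (2 : ℤ) ∣ (x - y) i := by
  obtain ⟨z, hz⟩ := h
  exact ⟨z i, by rw [hz]; simp⟩

end CfsgLib.Lattice.ModTwo
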